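import Cfsg.Prelude.Def_ClassificationStages
import Cfsg.Agent.Lib.Components.PComponent
import Cfsg.Agent.Lib.Coprime.Action

/-! Basic facts on `p`-components of subgroups and on the subgroup centralizing a `p`-component. -/

set_option autoImplicit false

namespace CfsgLib.Classif

open Subgroup

variable {G : Type*} [Group G] [Finite G] {p : ℕ} [Fact p.Prime]

theorem component_iff_commutator {K : Subgroup G} (hK : Cfsg.IsPComponent p K) :
    Cfsg.IsComponent K ↔ ⁅K, Cfsg.pPrimeCore p G⁆ = ⊥ := by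
  constructor
  · intro h
    refine (CfsgLib.Components.le_or_commutator_eq_bot h
      (Cfsg.pPrimeCore_normal p G).isSubnormal).resolve_left fun hle => ?_
    exact CfsgLib.PCore.not_dvd_card_pPrimeCore
      ((CfsgLib.Components.pComponent_dvd_card hK).trans (card_dvd_of_le hle))
  · intro h
    refine ⟨hK.1, (CfsgLib.Components.pComponent_quasisimple_iff hK).2 (le_bot_iff.1 ?_)⟩
    exact (commutator_mono le_rfl
      (CfsgLib.PCore.map_pPrimeCore_subtype_of_isSubnormal hK.1)).trans h.le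

/-- `O_{p'}(K)` as a subgroup of the ambient group. -/
abbrev coreIn (p : ℕ) (K : Subgroup G) : Subgroup G := (Cfsg.pPrimeCore p ↥K).map K.subtype

omit [Fact p.Prime] in
theorem coreIn_le (K : Subgroup G) : coreIn p K ≤ K := map_subtype_le _

omit [Fact p.Prime] in
theorem coprime_card_coreIn (K : Subgroup G) : (Nat.card (coreIn p K)).Coprime p := by
  rw [card_map_of_injective K.subtype_injective]
  exact CfsgLib.PCore.pPrimeCore_coprime

omit [Finite G] [Fact p.Prime] in
theorem mem_normalizer_iff_map {K : Subgroup G} {g : G} :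
    g ∈ normalizer (K : Set G) ↔ ∀ x, x ∈ K ↔ g * x * g⁻¹ ∈ K :=
  mem_normalizer_iff

theorem le_normalizer_coreIn (K : Subgroup G) :
    normalizer (K : Set G) ≤ normalizer (coreIn p K : Set G) := by
  have key : ∀ g ∈ normalizer (K : Set G), ∀ x ∈ coreIn p K, g * x * g⁻¹ ∈ coreIn p K := by
    rintro g hg _ ⟨y, hy, rfl⟩
    let e : ↥K ≃* ↥K :=
      { toFun := fun z => ⟨g * z * g⁻¹, (mem_normalizer_iff.1 hg z).1 z.2⟩
        invFun := fun z => ⟨g⁻¹ * z * g, (mem_normalizer_iff''.1 hg z).1 z.2⟩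
        left_inv := fun z => Subtype.ext (by simp [mul_assoc])
        right_inv := fun z => Subtype.ext (by simp [mul_assoc])
        map_mul' := fun a b => Subtype.ext (by simp [mul_assoc]) }
    refine ⟨e y, ?_, rfl⟩
    rw [← CfsgLib.PCore.map_pPrimeCore_equiv e]
    exact ⟨y, hy, rfl⟩
  intro g hg
  rw [mem_normalizer_iff]
  intro x
  refine ⟨key g hg x, fun h => ?_⟩
  simpa [mul_assoc] using key g⁻¹ (inv_mem hg) _ h

/-- In a group the `p`-layer of a `p`-component, as a group, is everything. -/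
theorem pLayer_eq_top {K : Subgroup G} (hK : Cfsg.IsPComponent p K) : Cfsg.pLayer p ↥K = ⊤ := by
  refine top_le_iff.1 (CfsgLib.Components.pComponent_le_pLayer (G := ↥K) ⟨IsSubnormal.top, ?_, ?_⟩)
  · rw [map_top_of_surjective _ (QuotientGroup.mk'_surjective _)]
    exact ⟨IsSubnormal.top, CfsgLib.Components.isQuasisimple_of_mulEquiv
      (CfsgLib.Components.pComponent_quotient_quasisimple hK) topEquiv.symm⟩
  · intro H hH _ hmap
    apply map_injective K.subtype_injective
    rw [← MonoidHom.range_eq_map, range_subtype]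
    refine hK.2.2 _ (hH.trans' hK.1) (map_subtype_le _) (le_antisymm (map_mono (map_subtype_le _)) ?_)
    rintro _ ⟨k, hk, rfl⟩
    obtain ⟨h, hh, he⟩ : QuotientGroup.mk' (Cfsg.pPrimeCore p ↥K) ⟨k, hk⟩ ∈
        H.map (QuotientGroup.mk' (Cfsg.pPrimeCore p ↥K)) := by
      rw [hmap]; exact ⟨_, mem_top _, rfl⟩
    refine ⟨h, ⟨h, hh, rfl⟩, ?_⟩
    have h1 : h⁻¹ * ⟨k, hk⟩ ∈ Cfsg.pPrimeCore p ↥K := QuotientGroup.eq.1 he
    have h2 : (h : G)⁻¹ * k ∈ Cfsg.pPrimeCore p G :=
      CfsgLib.PCore.map_pPrimeCore_subtype_of_isSubnormal hK.1 ⟨_, h1, rfl⟩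
    exact QuotientGroup.eq.2 h2

omit [Finite G] [Fact p.Prime] in
theorem subgroupOf_le_iff {C K L : Subgroup G} (hK : K ≤ C) :
    K.subgroupOf C ≤ L.subgroupOf C ↔ K ≤ L :=
  ⟨fun h x hx => h (x := ⟨x, hK hx⟩) hx, fun h => comap_mono h⟩

/-- The `p`-component `K` of `C` is the only one containing it. -/
theorem pComponentOf_eq_of_le {C K J : Subgroup G} (hK : Cfsg.IsPComponentOf p K C)
    (hJ : Cfsg.IsPComponentOf p J C) (hle : K ≤ J) : J = K := by
  have h : K.subgroupOf C = J.subgroupOf C :=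
    CfsgLib.Components.pComponent_eq_of_perfect_le hJ.2 ((subgroupOf_le_iff hK.1).2 hle) hK.2.1
      (CfsgLib.Components.pComponent_commutator_self hK.2)
      (CfsgLib.Components.pComponent_dvd_card hK.2)
  exact le_antisymm ((subgroupOf_le_iff hJ.1).1 h.ge) hle

theorem pLayerOf_eq_self {C K : Subgroup G} (hK : Cfsg.IsPComponentOf p K C) :
    Cfsg.pLayerOf p K = K := by
  have h1 := pLayer_eq_top hK.2
  have e := subgroupOfEquivOfLe hK.1
  have h2 : Cfsg.pLayer p ↥K = ⊤ := by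
    refine top_le_iff.1 fun x _ => ?_
    have hx : e.symm x ∈ Cfsg.pLayer p ↥(K.subgroupOf C) := h1 ▸ mem_top _
    have hmap : ∀ L : Subgroup ↥(K.subgroupOf C), Cfsg.IsPComponent p L →
        Cfsg.IsPComponent p (L.map e.toMonoidHom) := by
      intro L hL
      have hcore := CfsgLib.PCore.map_pPrimeCore_equiv (p := p) e
      let e' : (↥(K.subgroupOf C) ⧸ Cfsg.pPrimeCore p ↥(K.subgroupOf C)) ≃*
          (↥K ⧸ Cfsg.pPrimeCore p ↥K) := QuotientGroup.congr _ _ e hcore
      have hcomm : ∀ M : Subgroup ↥(K.subgroupOf C),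
          (M.map e.toMonoidHom).map (QuotientGroup.mk' (Cfsg.pPrimeCore p ↥K)) =
            (M.map (QuotientGroup.mk' _)).map e'.toMonoidHom := by
        intro M
        rw [map_map, map_map]
        rfl
      refine ⟨hL.1.map e.surjective, ?_, fun H hH hle hm => ?_⟩
      · rw [hcomm]; exact CfsgLib.Components.isComponent_map_equiv e' hL.2.1
      · have hH' : H = (H.map e.symm.toMonoidHom).map e.toMonoidHom := by
          rw [map_map]
          convert (map_id H).symm
          ext y; simp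
        rw [hH', hcomm, hcomm] at hm
        rw [hH']
        congr 1
        refine hL.2.2 _ (hH.map e.symm.surjective) ?_ (map_injective e'.injective hm)
        rintro _ ⟨y, hy, rfl⟩
        obtain ⟨z, hz, rfl⟩ := hle hy
        simpa using hz
    have := (sSup_le (a := (Cfsg.pLayer p ↥K).comap e.toMonoidHom) fun L hL =>
      map_le_iff_le_comap.1 (CfsgLib.Components.pComponent_le_pLayer (hmap L hL)) : Cfsg.pLayer p _ ≤ _) hx
    simpa using this
  rw [Cfsg.pLayerOf, h2, ← MonoidHom.range_eq_map, range_subtype]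

omit [Finite G] [Fact p.Prime] in
theorem mem_centralizerModCore_iff {M K : Subgroup G} (hK : K ≤ M) {d : ↥M} :
    d ∈ Cfsg.centralizerModCore p M K ↔
      ∀ k, ∀ hk : k ∈ K, d * ⟨k, hK hk⟩ * d⁻¹ * (⟨k, hK hk⟩ : ↥M)⁻¹ ∈ Cfsg.pPrimeCore p ↥M := by
  rw [Cfsg.centralizerModCore, mem_comap, mem_centralizer_iff]
  constructor
  · intro h k hk
    have := h _ ⟨⟨k, hK hk⟩, hk, rfl⟩
    rw [← QuotientGroup.eq_one_iff, ← QuotientGroup.mk'_apply, map_mul, map_mul, map_mul, map_inv,
      map_inv, ← this]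
    group
  · rintro h _ ⟨⟨k, hk'⟩, hk, rfl⟩
    have := h k hk
    rw [← QuotientGroup.eq_one_iff, ← QuotientGroup.mk'_apply, map_mul, map_mul, map_mul, map_inv,
      map_inv, mul_inv_eq_one, mul_inv_eq_iff_eq_mul] at this
    exact this.symm

/-- An element centralizing a `p`-component modulo the core normalizes it and acts trivially on it
modulo its own core. -/
theorem commutator_mem_coreIn {C K : Subgroup G} (hK : Cfsg.IsPComponentOf p K C) {d : G}
    (hd : d ∈ (Cfsg.centralizerModCore p C K).map C.subtype) {k : G} (hk : k ∈ K) :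
    d * k * d⁻¹ * k⁻¹ ∈ coreIn p K := by
  obtain ⟨⟨d, hdC⟩, hd, rfl⟩ := hd
  set q := QuotientGroup.mk' (Cfsg.pPrimeCore p ↥C) with hq
  have hdK : ⟨d, hdC⟩ ∈ normalizer ((K.subgroupOf C : Subgroup ↥C) : Set ↥C) := by
    rw [CfsgLib.Components.pComponent_eq hK.2]
    refine CfsgLib.Components.le_normalizer_pElemClosure (M := Cfsg.centralizerModCore p C K) ?_ hd
    exact (comap_mono (centralizer_le_normalizer _)).trans (le_normalizer_comap q)
  have h1 : ⟨d, hdC⟩ * ⟨k, hK.1 hk⟩ * ⟨d, hdC⟩⁻¹ * (⟨k, hK.1 hk⟩ : ↥C)⁻¹ ∈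
      K.subgroupOf C ⊓ Cfsg.pPrimeCore p ↥C :=
    ⟨Subgroup.mul_mem _ ((mem_normalizer_iff.1 hdK _).1 hk) ((K.subgroupOf C).inv_mem (x := ⟨k, hK.1 hk⟩) hk), (mem_centralizerModCore_iff hK.1).1 hd k hk⟩
  obtain ⟨v, hv, hve⟩ := CfsgLib.PCore.inf_pPrimeCore_le_map _ h1
  refine ⟨subgroupOfEquivOfLe hK.1 v, ?_, congrArg Subtype.val hve⟩
  rw [← CfsgLib.PCore.map_pPrimeCore_equiv (subgroupOfEquivOfLe hK.1)]
  exact ⟨v, hv, rfl⟩

omit [Finite G] [Fact p.Prime] in
theorem centralizer_le_centralizerModCore {C K : Subgroup G} (hKC : K ≤ C) :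
    C ⊓ centralizer (K : Set G) ≤ (Cfsg.centralizerModCore p C K).map C.subtype := by
  rintro d ⟨hdC, hd⟩
  refine ⟨⟨d, hdC⟩, (mem_centralizerModCore_iff hKC).2 fun k hk => ?_, rfl⟩
  have : (⟨d, hdC⟩ : ↥C) * ⟨k, hKC hk⟩ * ⟨d, hdC⟩⁻¹ * (⟨k, hKC hk⟩ : ↥C)⁻¹ = 1 := by
    apply Subtype.ext
    have h : k * d = d * k := mem_centralizer_iff.1 hd k hk
    simp [h.symm]
  rw [this]
  exact one_mem _

omit [Finite G] [Fact p.Prime] in
theorem isComponentOf_map {H : Type*} [Group H] (e : G ≃* H) {K C : Subgroup G}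
    (h : Cfsg.IsComponentOf K C) : Cfsg.IsComponentOf (K.map e.toMonoidHom) (C.map e.toMonoidHom) := by
  refine ⟨map_mono h.1, ?_⟩
  have h1 := CfsgLib.Components.isComponent_map_equiv (e.subgroupMap C) h.2
  suffices he : (K.map e.toMonoidHom).subgroupOf (C.map e.toMonoidHom) =
      (K.subgroupOf C).map (e.subgroupMap C).toMonoidHom by rw [he]; exact h1
  ext ⟨x, hx⟩
  constructor
  · rintro ⟨k, hk, hkx⟩
    exact ⟨⟨k, h.1 hk⟩, hk, Subtype.ext hkx⟩
  · rintro ⟨⟨k, hkC⟩, hk, hkx⟩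
    exact ⟨k, hk, congrArg Subtype.val hkx⟩

/-- Coprime action on a `p'`-normal subgroup: fixed points cover the centralized part. -/
theorem exists_fixed_rep {y : G} (hy : orderOf y = p) {O : Subgroup G}
    (hO : (Nat.card O).Coprime p) (hyO : y ∈ normalizer (O : Set G))
    {k : G} (hk : y⁻¹ * (k⁻¹ * y * k) ∈ O) :
    ∃ x ∈ O, ∃ a ∈ zpowers y, x * (k⁻¹ * y * k) * x⁻¹ = a := by
  have hcard : ∀ z : G, orderOf z = p → (Nat.card ↥(zpowers z)).Coprime (Nat.card O) := by
    intro z hz; rw [Nat.card_zpowers, hz]; exact hO.symm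
  have hz : orderOf (k⁻¹ * y * k) = p := by
    rw [← hy]
    simpa using orderOf_injective (MulAut.conj k⁻¹).toMonoidHom (MulAut.conj k⁻¹).injective y
  have hU : zpowers (k⁻¹ * y * k) ≤ zpowers y ⊔ O := by
    rw [zpowers_le]
    have := mul_mem (le_sup_left (b := O) (mem_zpowers y)) (le_sup_right (a := zpowers y) hk)
    simpa using this
  obtain ⟨x, hx, hle⟩ := CfsgLib.Coprime.exists_conj_le_of_coprime (zpowers y) O
    (zpowers_le.2 hyO) (hcard y hy) (zpowers (k⁻¹ * y * k)) hU (hcard _ hz) (Or.inl inferInstance)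
  exact ⟨x, hx, _, CfsgLib.Coprime.conj_smul_le.1 hle _ (mem_zpowers _), rfl⟩

end CfsgLib.Classif
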