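import Mathlib.FieldTheory.ChevalleyWarning
import Mathlib.FieldTheory.Finite.GaloisField
import Mathlib.LinearAlgebra.Matrix.Charpoly.Coeff
import Mathlib.LinearAlgebra.Matrix.Reindex
import Mathlib.LinearAlgebra.Determinant
import Mathlib.RingTheory.IntegralClosure.IntegrallyClosed
import Mathlib.RingTheory.Polynomial.UniqueFactorization
import Mathlib.Algebra.MvPolynomial.NoZeroDivisors
import Mathlib.RingTheory.LocalRing.Basic
import Mathlib.RingTheory.IntegralDomain
import Mathlib.LinearAlgebra.FreeModule.Finite.Matrix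
import Mathlib.Algebra.MvPolynomial.Nilpotent
import Mathlib.Algebra.CharP.Algebra
import Mathlib.RingTheory.Localization.FractionRing
import Mathlib.LinearAlgebra.Matrix.CharP
import Mathlib.Tactic

/-! An additive group of matrices over `ZMod 2`, of the dimension of the space, containing `1`, with all
nonzero elements invertible and closed under inverses, is a field (finite Jordan division algebras). -/

set_option autoImplicit false

namespace CfsgLib.SpreadField

open Matrix

section Ring

variable {R : Type*} [Ring R] [CharP R 2]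

/-- Hua's identity in characteristic 2. -/
theorem hua {a b ai bi ci d : R} (hai : ai * a = 1) (hai' : a * ai = 1)
    (hbi : bi * b = 1) (hb' : b * bi = 1) (hc : ci * (bi + a) = 1) (hc' : (bi + a) * ci = 1)
    (hd : d * (ai + ci) = 1) : d = a + a * b * a := by
  have h1 : (ai + ci) * (a + a * b * a) = 1 := by
    have e : ci * a + ci * (a * b * a) = ci * ((bi + a) * (b * a)) := by
      rw [← mul_add, add_mul, ← mul_assoc bi, hbi, one_mul, ← mul_assoc a b]
    rw [← mul_assoc ci (bi + a), hc, one_mul] at e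
    calc (ai + ci) * (a + a * b * a)
        = ai * a + ai * a * (b * a) + (ci * a + ci * (a * b * a)) := by noncomm_ring
      _ = 1 := by
        rw [hai, e, one_mul, add_assoc, CharTwo.add_self_eq_zero, add_zero]
  calc d = d * ((ai + ci) * (a + a * b * a)) := by rw [h1, mul_one]
    _ = a + a * b * a := by rw [← mul_assoc, hd, one_mul]

end Ring

variable {n : Type*} [Fintype n] [DecidableEq n]

/-- The hypotheses on the set of matrices. -/
structure IsSpread (J : Submodule (ZMod 2) (Matrix n n (ZMod 2))) : Prop where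
  one : 1 ∈ J
  unit : ∀ x ∈ J, x ≠ 0 → IsUnit x
  inv : ∀ x ∈ J, ∀ y, x * y = 1 → y ∈ J
  card : Module.finrank (ZMod 2) J = Fintype.card n

namespace IsSpread

variable [Nonempty n] {J : Submodule (ZMod 2) (Matrix n n (ZMod 2))} (hJ : IsSpread J)
include hJ

theorem inverse {x : Matrix n n (ZMod 2)} (hx : x ∈ J) (h : x ≠ 0) :
    ∃ y ∈ J, y ≠ 0 ∧ x * y = 1 ∧ y * x = 1 := by
  obtain ⟨u, rfl⟩ := hJ.unit x hx h
  exact ⟨_, hJ.inv _ hx _ u.mul_inv, u⁻¹.ne_zero, u.mul_inv, u.inv_mul⟩

theorem conj_mem {a b : Matrix n n (ZMod 2)} (ha : a ∈ J) (hb : b ∈ J) : a * b * a ∈ J := by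
  by_cases ha0 : a = 0
  · simp [ha0]
  by_cases hb0 : b = 0
  · simp [hb0]
  obtain ⟨ai, haiJ, -, hai', hai⟩ := hJ.inverse ha ha0
  obtain ⟨bi, hbiJ, -, hbi', hbi⟩ := hJ.inverse hb hb0
  by_cases hc0 : bi + a = 0
  · have : a = bi := (CharTwo.add_eq_zero.1 hc0).symm
    rw [mul_assoc, this, hbi', mul_one]
    exact hbiJ
  obtain ⟨ci, hciJ, -, hci', hci⟩ := hJ.inverse (J.add_mem hbiJ ha) hc0
  have hne : ai + ci ≠ 0 := by
    intro h
    have hai2 : ai = ci := CharTwo.add_eq_zero.1 h
    have h2 : bi + a = a :=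
      calc bi + a = (bi + a) * ai * a := by rw [mul_assoc, hai, mul_one]
        _ = a := by rw [hai2, hci', one_mul]
    have h3 : bi = 0 := by simpa using h2
    rw [h3, zero_mul] at hbi
    exact zero_ne_one hbi
  obtain ⟨d, hdJ, -, -, hd⟩ := hJ.inverse (J.add_mem haiJ hciJ) hne
  have := hua hai hai' hbi hbi' hci hci' hd
  have h2 : a * b * a = d + a := by
    rw [this, add_comm a (a * b * a), add_assoc, CharTwo.add_self_eq_zero, add_zero]
  rw [h2]
  exact J.add_mem hdJ ha

theorem triple_mem {a b c : Matrix n n (ZMod 2)} (ha : a ∈ J) (hb : b ∈ J) (hc : c ∈ J) :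
    a * b * c + c * b * a ∈ J := by
  have h : a * b * c + c * b * a = (a + c) * b * (a + c) + a * b * a + c * b * c := by
    calc a * b * c + c * b * a
        = a * b * c + c * b * a + (a * b * a + a * b * a) + (c * b * c + c * b * c) := by
          simp only [CharTwo.add_self_eq_zero, add_zero]
      _ = _ := by noncomm_ring
  rw [h]
  exact J.add_mem (J.add_mem (hJ.conj_mem (J.add_mem ha hc) hb) (hJ.conj_mem ha hb)) (hJ.conj_mem hc hb)

theorem pow_mem {x : Matrix n n (ZMod 2)} (hx : x ∈ J) : ∀ k : ℕ, x ^ k ∈ J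
  | 0 => by simpa using hJ.one
  | 1 => by simpa using hx
  | k + 2 => by
    have := hJ.conj_mem hx (pow_mem hx k)
    rwa [← pow_succ', ← pow_succ] at this

theorem exists_sqrt {x : Matrix n n (ZMod 2)} (hx : x ∈ J) : ∃ k : ℕ, (x ^ k) ^ 2 = x := by
  by_cases h0 : x = 0
  · exact ⟨1, by simp [h0]⟩
  obtain ⟨u, rfl⟩ := hJ.unit x hx h0
  rcases Nat.even_or_odd (orderOf u) with ⟨M, hM⟩ | ⟨M, hM⟩
  · exfalso
    have hpos : 0 < orderOf u := orderOf_pos u
    have h1 : ((u : Matrix n n (ZMod 2)) ^ M + 1) * ((u : Matrix n n (ZMod 2)) ^ M + 1) = 0 := by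
      calc ((u : Matrix n n (ZMod 2)) ^ M + 1) * ((u : Matrix n n (ZMod 2)) ^ M + 1)
          = (u : Matrix n n (ZMod 2)) ^ (M + M) + 1 + ((u : Matrix n n (ZMod 2)) ^ M + (u : Matrix n n (ZMod 2)) ^ M) := by
            rw [pow_add]; noncomm_ring
        _ = 0 := by
            rw [← hM, CharTwo.add_self_eq_zero, add_zero, ← Units.val_pow_eq_pow_val, pow_orderOf_eq_one,
              Units.val_one, CharTwo.add_self_eq_zero]
    have h2 : (u : Matrix n n (ZMod 2)) ^ M + 1 = 0 := by
      by_contra h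
      exact h ((hJ.unit _ (J.add_mem (hJ.pow_mem hx M) hJ.one) h).mul_right_eq_zero.1 h1)
    have h3 : u ^ M = 1 := Units.ext (by
      rw [Units.val_pow_eq_pow_val, Units.val_one]; exact CharTwo.add_eq_zero.1 h2)
    have := Nat.le_of_dvd (by omega) (orderOf_dvd_of_pow_eq_one h3)
    omega
  · refine ⟨M + 1, ?_⟩
    rw [← pow_mul, show (M + 1) * 2 = orderOf u + 1 by omega, ← Units.val_pow_eq_pow_val, pow_succ,
      pow_orderOf_eq_one, one_mul]

theorem mul_mem_of_commute {a x : Matrix n n (ZMod 2)} (ha : a ∈ J) (hx : x ∈ J) (h : Commute a x) :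
    a * x ∈ J := by
  obtain ⟨k, hk⟩ := hJ.exists_sqrt hx
  have e : a * x = x ^ k * a * x ^ k := by
    conv_lhs => rw [← hk, sq, ← mul_assoc, (h.pow_right k).eq]
  rw [e]
  exact hJ.conj_mem (hJ.pow_mem hx k) ha

/-- A maximal commuting subfield inside `J`. -/
theorem exists_subalgebra : ∃ S : Subalgebra (ZMod 2) (Matrix n n (ZMod 2)),
    S.toSubmodule ≤ J ∧ (∀ a ∈ S, ∀ b ∈ S, a * b = b * a) ∧ ∀ y ∈ J, (∀ a ∈ S, a * y = y * a) → y ∈ S := by
  obtain ⟨T, ⟨hTJ, hT1, hTc⟩, hmax⟩ := Set.Finite.exists_maximal (Set.toFinite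
    {T : Set (Matrix n n (ZMod 2)) | T ⊆ J ∧ (1 : Matrix n n (ZMod 2)) ∈ T ∧ ∀ a ∈ T, ∀ b ∈ T, a * b = b * a})
    ⟨{1}, by simp [hJ.one], rfl, by simp⟩
  have hkey : ∀ y ∈ J, (∀ a ∈ T, a * y = y * a) → y ∈ T := by
    intro y hy hc
    refine hmax (y := insert y T) ⟨Set.insert_subset hy hTJ, Set.mem_insert_of_mem _ hT1, ?_⟩
      (Set.subset_insert _ _) (Set.mem_insert _ _)
    rintro a (rfl | ha) b (rfl | hb)
    · rfl
    · exact (hc b hb).symm
    · exact hc a ha
    · exact hTc a ha b hb
  have hadd : ∀ a ∈ T, ∀ b ∈ T, a + b ∈ T := fun a ha b hb =>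
    hkey _ (J.add_mem (hTJ ha) (hTJ hb)) fun c hc => by rw [mul_add, add_mul, hTc c hc a ha, hTc c hc b hb]
  have hmul : ∀ a ∈ T, ∀ b ∈ T, a * b ∈ T := fun a ha b hb =>
    hkey _ (hJ.mul_mem_of_commute (hTJ ha) (hTJ hb) (hTc a ha b hb)) fun c hc => by
      rw [← mul_assoc, hTc c hc a ha, mul_assoc, hTc c hc b hb, mul_assoc]
  have h0 : (0 : Matrix n n (ZMod 2)) ∈ T := hkey _ J.zero_mem (by simp)
  refine ⟨{ carrier := T, mul_mem' := fun ha hb => hmul _ ha _ hb, one_mem' := hT1,
            add_mem' := fun ha hb => hadd _ ha _ hb, zero_mem' := h0, algebraMap_mem' := fun r => ?_ },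
    hTJ, hTc, hkey⟩
  fin_cases r
  · exact (map_zero (algebraMap (ZMod 2) (Matrix n n (ZMod 2)))).symm ▸ h0
  · exact (map_one (algebraMap (ZMod 2) (Matrix n n (ZMod 2)))).symm ▸ hT1

end IsSpread

/-! ### Extending the scalars -/

section Ext

variable {K : Type*} [Field K] (φ : ZMod 2 →+* K)

/-- The `K`-span of `J`. -/
def spanExt (J : Submodule (ZMod 2) (Matrix n n (ZMod 2))) : Submodule K (Matrix n n K) :=
  Submodule.span K ((fun M => φ.mapMatrix M) '' (J : Set (Matrix n n (ZMod 2))))

variable {J : Submodule (ZMod 2) (Matrix n n (ZMod 2))}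

theorem map_mem_spanExt {M : Matrix n n (ZMod 2)} (h : M ∈ J) : φ.mapMatrix M ∈ spanExt φ J :=
  Submodule.subset_span ⟨M, h, rfl⟩

theorem triple_spanExt [Nonempty n] (hJ : IsSpread J) {x y z : Matrix n n K} (hx : x ∈ spanExt φ J)
    (hy : y ∈ spanExt φ J) (hz : z ∈ spanExt φ J) : x * y * z + z * y * x ∈ spanExt φ J := by
  induction hx using Submodule.span_induction with
  | zero => simp
  | add a b _ _ iha ihb =>
    convert (spanExt φ J).add_mem iha ihb using 1
    noncomm_ring
  | smul c a _ iha =>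
    convert (spanExt φ J).smul_mem c iha using 1
    simp [smul_add]
  | mem a ha =>
    induction hy using Submodule.span_induction with
    | zero => simp
    | add b b' _ _ ihb ihb' =>
      convert (spanExt φ J).add_mem ihb ihb' using 1
      noncomm_ring
    | smul c b _ ihb =>
      convert (spanExt φ J).smul_mem c ihb using 1
      simp [smul_add]
    | mem b hb =>
      induction hz using Submodule.span_induction with
      | zero => simp
      | add e e' _ _ ihe ihe' =>
        convert (spanExt φ J).add_mem ihe ihe' using 1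
        noncomm_ring
      | smul c e _ ihe =>
        convert (spanExt φ J).smul_mem c ihe using 1
        simp [smul_add]
      | mem e he =>
        obtain ⟨a, ha, rfl⟩ := ha
        obtain ⟨b, hb, rfl⟩ := hb
        obtain ⟨e, he, rfl⟩ := he
        simp only [← map_mul, ← map_add]
        exact map_mem_spanExt φ (hJ.triple_mem ha hb he)

theorem conj_spanExt [Nonempty n] (hJ : IsSpread J) {x y : Matrix n n K} (hx : x ∈ spanExt φ J)
    (hy : y ∈ spanExt φ J) : x * y * x ∈ spanExt φ J := by
  induction hx using Submodule.span_induction with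
  | zero => simp
  | add a b ha hb iha ihb =>
    convert (spanExt φ J).add_mem ((spanExt φ J).add_mem iha ihb) (triple_spanExt φ hJ ha hy hb) using 1
    noncomm_ring
  | smul c a _ iha =>
    convert (spanExt φ J).smul_mem (c * c) iha using 1
    simp [smul_smul]
  | mem a ha =>
    induction hy using Submodule.span_induction with
    | zero => simp
    | add b b' _ _ ihb ihb' =>
      convert (spanExt φ J).add_mem ihb ihb' using 1
      noncomm_ring
    | smul c b _ ihb =>
      convert (spanExt φ J).smul_mem c ihb using 1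
      simp
    | mem b hb =>
      obtain ⟨a, ha, rfl⟩ := ha
      obtain ⟨b, hb, rfl⟩ := hb
      simp only [← map_mul]
      exact map_mem_spanExt φ (hJ.conj_mem ha hb)

theorem pow_spanExt [Nonempty n] (hJ : IsSpread J) {x : Matrix n n K} (hx : x ∈ spanExt φ J) :
    ∀ k : ℕ, x ^ k ∈ spanExt φ J
  | 0 => by simpa using map_mem_spanExt φ hJ.one
  | 1 => by simpa using hx
  | k + 2 => by
    have := conj_spanExt φ hJ hx (pow_spanExt hJ hx k)
    rwa [← pow_succ', ← pow_succ] at this

theorem inv_spanExt [Nonempty n] (hJ : IsSpread J) {x : Matrix n n K} (hx : x ∈ spanExt φ J)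
    (hdet : x.det ≠ 0) : ∃ y ∈ spanExt φ J, x * y = 1 ∧ y * x = 1 := by
  have hp : ∀ p : Polynomial K, Polynomial.aeval x p ∈ spanExt φ J := fun p => by
    rw [Polynomial.aeval_eq_sum_range]
    exact Submodule.sum_mem _ fun i _ => Submodule.smul_mem _ _ (pow_spanExt φ hJ hx i)
  obtain ⟨q, hq⟩ := Polynomial.X_dvd_sub_C (p := x.charpoly)
  have hc : x.charpoly.coeff 0 ≠ 0 := by
    intro h
    apply hdet
    rw [Matrix.det_eq_sign_charpoly_coeff, h, mul_zero]
  have h0 := congrArg (Polynomial.aeval x) hq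
  rw [map_sub, Matrix.aeval_self_charpoly, map_mul, Polynomial.aeval_C, Polynomial.aeval_X, zero_sub,
    Algebra.algebraMap_eq_smul_one] at h0
  have h1 : x * (-(x.charpoly.coeff 0)⁻¹ • Polynomial.aeval x q) = 1 := by
    rw [Matrix.mul_smul, ← h0, neg_smul, smul_neg, neg_neg, smul_smul, inv_mul_cancel₀ hc, one_smul]
  exact ⟨_, Submodule.smul_mem _ _ (hp q), h1, mul_eq_one_comm.1 h1⟩

/-- What commutes with `A` over `K` comes from what commutes with `a` over `ZMod 2`. -/
theorem centralizer_spanExt [Nonempty n] (a : Matrix n n (ZMod 2)) {S : Submodule (ZMod 2) (Matrix n n (ZMod 2))}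
    (hS : ∀ y ∈ J, a * y = y * a → y ∈ S) {y : Matrix n n K} (hy : y ∈ spanExt φ J)
    (hc : φ.mapMatrix a * y = y * φ.mapMatrix a) : y ∈ spanExt φ S := by
  let f : ↥J →ₗ[ZMod 2] Matrix n n (ZMod 2) :=
    { toFun := fun z => a * z.1 + z.1 * a
      map_add' := fun z w => by simp [mul_add, add_mul]; abel
      map_smul' := fun c z => by simp [smul_add] }
  obtain ⟨C, hC⟩ := (LinearMap.ker f).exists_isCompl
  have hinj : LinearMap.ker (f.comp C.subtype) = ⊥ := by
    refine (LinearMap.ker_eq_bot').2 fun c hc => Subtype.ext ?_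
    have := Submodule.disjoint_def.1 hC.disjoint c.1 hc c.2
    exact this
  obtain ⟨g₀, hg₀⟩ := (f.comp C.subtype).exists_leftInverse_of_injective hinj
  let g : Matrix n n (ZMod 2) →ₗ[ZMod 2] Matrix n n (ZMod 2) := J.subtype ∘ₗ C.subtype ∘ₗ g₀
  have hg : ∀ z : ↥J, (z : Matrix n n (ZMod 2)) - g (f z) ∈ S := by
    intro z
    obtain ⟨u, hu, w, hw, rfl⟩ := Submodule.mem_sup.1 (hC.sup_eq_top.ge (Submodule.mem_top (x := z)))
    have hfu : f u = 0 := hu
    have h1 : g₀ (f (u + w)) = ⟨w, hw⟩ := by
      rw [map_add, hfu, zero_add]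
      exact LinearMap.congr_fun hg₀ ⟨w, hw⟩
    have h2 : g (f (u + w)) = w.1 := by
      show ((g₀ (f (u + w))).1).1 = _
      rw [h1]
    rw [h2, Submodule.coe_add, add_sub_cancel_right]
    exact hS _ u.2 (CharTwo.add_eq_zero.1 hfu)
  let gK : Matrix n n K →ₗ[K] Matrix n n K :=
    { toFun := fun M => ∑ i, ∑ j, M i j • φ.mapMatrix (g (Matrix.single i j 1))
      map_add' := fun M N => by simp [add_smul, Finset.sum_add_distrib]
      map_smul' := fun c M => by simp [Finset.smul_sum, smul_smul] }
  have hgK : ∀ M, gK (φ.mapMatrix M) = φ.mapMatrix (g M) := by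
    intro M
    conv_rhs => rw [Matrix.matrix_eq_sum_single M]
    simp only [map_sum]
    refine Finset.sum_congr rfl fun i _ => Finset.sum_congr rfl fun j _ => ?_
    rw [show Matrix.single i j (M i j) = M i j • Matrix.single i j (1 : ZMod 2) by simp, map_smul]
    ext k l
    simp
  set A := φ.mapMatrix a
  have key : ∀ z ∈ spanExt φ J, z - gK (A * z + z * A) ∈ spanExt φ S := by
    intro z hz
    induction hz using Submodule.span_induction with
    | zero => simp
    | add u v _ _ ihu ihv =>
      convert (spanExt φ S).add_mem ihu ihv using 1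
      simp [mul_add, add_mul, map_add]; abel
    | smul c u _ ihu =>
      convert (spanExt φ S).smul_mem c ihu using 1
      simp [smul_sub, ← smul_add]
    | mem u hu =>
      obtain ⟨u, hu, rfl⟩ := hu
      simp only [A, ← map_mul, ← map_add, hgK, ← map_sub]
      exact map_mem_spanExt φ (hg ⟨u, hu⟩)
  have h := key y hy
  have h0 : A * y + y * A = 0 := by
    have h2 : (2 : K) = 0 := by
      rw [← map_ofNat φ 2, show (OfNat.ofNat 2 : ZMod 2) = 0 from rfl, map_zero]
    rw [hc, ← two_smul K, h2, zero_smul]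
  rwa [h0, map_zero, sub_zero] at h

end Ext

/-! ### The determinant is a power -/

section Det

variable {K : Type*} [Field K] [CharP K 2]

theorem det_one_add_sq_zero {N : Matrix n n K} (hN : N * N = 0) : (1 + N).det = 1 := by
  have h2 : (N + N : Matrix n n K) = 0 := by
    ext i j
    exact CharTwo.add_self_eq_zero _
  have h : (1 + N) * (1 + N) = 1 := by
    calc (1 + N) * (1 + N) = 1 + (N + N) + N * N := by noncomm_ring
      _ = 1 := by rw [h2, hN, add_zero, add_zero]
  have hd := congrArg Matrix.det h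
  rw [Matrix.det_mul, Matrix.det_one] at hd
  have h3 : ((1 + N).det + 1) * ((1 + N).det + 1) = 0 := by
    calc ((1 + N).det + 1) * ((1 + N).det + 1)
        = (1 + N).det * (1 + N).det + 1 + ((1 + N).det + (1 + N).det) := by ring
      _ = 0 := by rw [hd, CharTwo.add_self_eq_zero, zero_add, CharTwo.add_self_eq_zero]
  exact CharTwo.add_eq_zero.1 (mul_self_eq_zero.1 h3)

/-- One pivot step. -/
theorem det_pivot {f e x z : Matrix n n K} (_hf : f * f = f) (_he : e * e = e) (hfe : f * e = 0)
    (hef : e * f = 0) (hz : f * z = z) (hz' : z * f = z)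
    (hzi : z * (f * x * f) = f) (hiz : f * x * f * z = f) {c : K}
    (hc : e * x * e + e * x * z * x * e = c • e) :
    ((f + e) * x * (f + e) + (1 - (f + e))).det = (f * x * f + (1 - f)).det * (1 - e + c • e).det := by
  have hze : z * e = 0 := by rw [← hz', mul_assoc, hfe, mul_zero]
  have hez : e * z = 0 := by rw [← hz, ← mul_assoc, hef, zero_mul]
  have hL : (1 + e * x * z).det = 1 := det_one_add_sq_zero (by
    rw [show e * x * z * (e * x * z) = e * x * (z * e) * x * z by noncomm_ring, hze]; simp)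
  have hR : (1 + z * x * e).det = 1 := det_one_add_sq_zero (by
    rw [show z * x * e * (z * x * e) = z * x * (e * z) * x * e by noncomm_ring, hez]; simp)
  set D := f * x * f + (1 - (f + e)) + c • e with hD
  have hsplit : (f * x * f + (1 - f)) * (1 - e + c • e) = D := by
    have e1 : (f * x * f + (1 - f)) * e = e := by
      rw [add_mul, sub_mul, one_mul, mul_assoc _ f e, hfe, mul_zero, zero_add, sub_zero]
    calc (f * x * f + (1 - f)) * (1 - e + c • e)
        = (f * x * f + (1 - f)) - (f * x * f + (1 - f)) * e + c • ((f * x * f + (1 - f)) * e) := by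
          rw [mul_add, mul_sub, mul_one, Matrix.mul_smul]
      _ = D := by rw [e1, hD]; abel
  have hprod : (1 + e * x * z) * D * (1 + z * x * e) = (f + e) * x * (f + e) + (1 - (f + e)) := by
    have z1 : e * x * z * (1 - (f + e)) = 0 := by
      rw [mul_assoc (e * x) z, mul_sub, mul_one, mul_add, hz', hze, add_zero, sub_self, mul_zero]
    have z2 : e * x * z * e = 0 := by rw [mul_assoc, hze, mul_zero]
    have z3 : e * x * z * (f * x * f) = e * x * f := by rw [mul_assoc, hzi]
    have z4 : (1 - (f + e)) * (z * x * e) = 0 := by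
      rw [sub_mul, one_mul, add_mul, ← mul_assoc, ← mul_assoc, hz, ← mul_assoc e, ← mul_assoc e, hez]; simp
    have z5 : e * (z * x * e) = 0 := by rw [← mul_assoc, ← mul_assoc, hez]; simp
    have z6 : f * x * f * (z * x * e) = f * x * e := by rw [← mul_assoc, ← mul_assoc, hiz]
    have z7 : e * x * f * (z * x * e) = e * x * z * x * e := by
      rw [← mul_assoc, ← mul_assoc, mul_assoc (e * x) f z, hz]
    have LD : (1 + e * x * z) * D = D + e * x * f := by
      rw [add_mul, one_mul, hD, mul_add, mul_add, z3, z1, Matrix.mul_smul, z2, smul_zero, add_zero, add_zero]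
    rw [LD, mul_add, mul_one, add_mul, z7, hD, add_mul, add_mul, z6, z4, Matrix.smul_mul, z5, smul_zero,
      add_zero, add_zero, ← hc]
    have h2 : ∀ M : Matrix n n K, M + M = 0 := fun M => by ext i j; exact CharTwo.add_self_eq_zero _
    calc f * x * f + (1 - (f + e)) + (e * x * e + e * x * z * x * e) + e * x * f +
          (f * x * e + e * x * z * x * e)
        = f * x * f + (1 - (f + e)) + e * x * e + e * x * f + f * x * e +
          (e * x * z * x * e + e * x * z * x * e) := by abel
      _ = _ := by rw [h2, add_zero]; noncomm_ring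
  rw [← hprod, Matrix.det_mul, Matrix.det_mul, hL, hR, one_mul, mul_one, ← hsplit, Matrix.det_mul]

variable (φ : ZMod 2 →+* K) [Nonempty n] {J : Submodule (ZMod 2) (Matrix n n (ZMod 2))}

/-- `det` of an element whose principal corners are regular is an `r`-th power. -/
theorem det_isPow (hJ : IsSpread J) {r : ℕ} {I : Type*} [DecidableEq I] (ε : I → Matrix n n K)
    (hidem : ∀ i, ε i * ε i = ε i) (horth : ∀ i j, i ≠ j → ε i * ε j = 0)
    (hmem : ∀ i, ε i ∈ spanExt φ J)
    (hcorner : ∀ i, ∀ y ∈ spanExt φ J, ∃ c : K, ε i * y * ε i = c • ε i)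
    (hpow : ∀ i (c : K), ∃ d : K, (1 - ε i + c • ε i).det = d ^ r)
    {x : Matrix n n K} (hx : x ∈ spanExt φ J) (s : Finset I)
    (hreg : ∀ t, t ⊆ s → ((∑ i ∈ t, ε i) * x * (∑ i ∈ t, ε i) + (1 - ∑ i ∈ t, ε i)).det ≠ 0) :
    ∃ d : K, ((∑ i ∈ s, ε i) * x * (∑ i ∈ s, ε i) + (1 - ∑ i ∈ s, ε i)).det = d ^ r := by
  induction s using Finset.induction with
  | empty => exact ⟨1, by simp⟩
  | @insert i s his ih =>
    obtain ⟨d, hd⟩ := ih fun t ht => hreg t (ht.trans (Finset.subset_insert _ _))
    set f := ∑ j ∈ s, ε j with hfdef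
    have hfe : f * ε i = 0 := by
      rw [hfdef, Finset.sum_mul]
      exact Finset.sum_eq_zero fun j hj => horth j i fun h => his (h ▸ hj)
    have hef : ε i * f = 0 := by
      rw [hfdef, Finset.mul_sum]
      exact Finset.sum_eq_zero fun j hj => horth i j fun h => his (h ▸ hj)
    have hf : f * f = f := by
      rw [hfdef, Finset.sum_mul]
      refine Finset.sum_congr rfl fun j hj => ?_
      rw [Finset.mul_sum, Finset.sum_eq_single j (fun k _ hk => horth j k (Ne.symm hk))
        (fun h => absurd hj h), hidem]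
    have hfm : f ∈ spanExt φ J := Submodule.sum_mem _ fun j _ => hmem j
    have h1m : (1 : Matrix n n K) ∈ spanExt φ J := by simpa using map_mem_spanExt φ hJ.one
    set w := f * x * f + (1 - f) with hw
    have hwm : w ∈ spanExt φ J :=
      (spanExt φ J).add_mem (conj_spanExt φ hJ hfm hx) ((spanExt φ J).sub_mem h1m hfm)
    obtain ⟨wi, hwi, hwwi, hwiw⟩ := inv_spanExt φ hJ hwm (hreg s (Finset.subset_insert _ _))
    have hwf : w * f = f * x * f := by
      rw [hw, add_mul, sub_mul, one_mul, mul_assoc _ f f, hf, sub_self, add_zero]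
    have hfw : f * w = f * x * f := by
      rw [hw, mul_add, mul_sub, mul_one, hf, sub_self, add_zero, ← mul_assoc, ← mul_assoc, hf]
    have hcomm : f * wi = wi * f := by
      calc f * wi = wi * w * (f * wi) := by rw [hwiw, one_mul]
        _ = wi * (w * f) * wi := by noncomm_ring
        _ = wi * f * (w * wi) := by rw [hwf, ← hfw]; noncomm_ring
        _ = wi * f := by rw [hwwi, mul_one]
    set z := f * wi * f with hz
    have hzm : z ∈ spanExt φ J := conj_spanExt φ hJ hfm hwi
    obtain ⟨c, hc⟩ := hcorner i (x + x * z * x) ((spanExt φ J).add_mem hx (conj_spanExt φ hJ hx hzm))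
    have hzeq : z = wi * f := by rw [hz, hcomm, mul_assoc, hf]
    have hstep := det_pivot (f := f) (e := ε i) (x := x) (z := z) hf (hidem i) hfe hef
      (by rw [hz, ← mul_assoc, ← mul_assoc, hf]) (by rw [hz, mul_assoc, hf])
      (by rw [hzeq, ← hfw, mul_assoc, ← mul_assoc f f, hf, hfw, ← hwf, ← mul_assoc, hwiw, one_mul])
      (by rw [hzeq, ← hcomm, ← hwf, mul_assoc, ← mul_assoc f f, hf, hcomm, ← mul_assoc, hwwi, one_mul])
      (c := c) (by rw [← hc]; noncomm_ring)
    obtain ⟨d', hd'⟩ := hpow i c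
    refine ⟨d * d', ?_⟩
    rw [Finset.sum_insert his, add_comm (ε i) f, hstep, mul_pow, ← hd, ← hd']

end Det

end CfsgLib.SpreadField
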