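import Cfsg.Agent.Lib.Classif.SpreadField

/-! Finite Jordan division algebras of matrices of maximal dimension are fields: main statement. -/

set_option autoImplicit false

namespace CfsgLib.SpreadField

open Matrix


variable {n : Type*} [Fintype n] [DecidableEq n]

/-- A commutative division subalgebra is, after a change of basis, `r` diagonal copies of its regular
representation. -/
theorem exists_rep [Nonempty n] (S : Subalgebra (ZMod 2) (Matrix n n (ZMod 2)))
    (hc : ∀ a ∈ S, ∀ b ∈ S, a * b = b * a) (hu : ∀ a ∈ S, a ≠ 0 → IsUnit a) :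
    ∃ (e r : ℕ) (μ : ↥S → Matrix (Fin e) (Fin e) (ZMod 2)) (P : Matrix n (Fin e × Fin r) (ZMod 2))
      (Q : Matrix (Fin e × Fin r) n (ZMod 2)),
      0 < e ∧ 0 < r ∧ e = Module.finrank (ZMod 2) ↥S ∧ e * r = Fintype.card n ∧ P * Q = 1 ∧ Q * P = 1 ∧
      (∀ s : ↥S, (s : Matrix n n (ZMod 2)) = P * blockDiagonal (fun _ => μ s) * Q) ∧
      ∃ a : ↥S, (∀ s : ↥S, s = 0 ∨ ∃ k : ℕ, s = a ^ k) ∧ a ^ (2 ^ e) = a := by
  classical
  letI : CommRing ↥S := { (inferInstance : Ring ↥S) with mul_comm := fun a b => Subtype.ext (hc _ a.2 _ b.2) }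
  haveI : NoZeroDivisors ↥S := ⟨fun {a b} h => by
    by_cases ha : a = 0
    · exact Or.inl ha
    · refine Or.inr (Subtype.ext ?_)
      exact (hu _ a.2 fun h0 => ha (Subtype.ext h0)).mul_right_eq_zero.1 (congrArg Subtype.val h)⟩
  haveI : IsDomain ↥S := NoZeroDivisors.to_isDomain _
  haveI : Fintype ↥S := Fintype.ofFinite _
  letI : Field ↥S := Fintype.fieldOfDomain _
  letI : Module ↥S (n → ZMod 2) :=
    Module.compHom (n → ZMod 2) ((Matrix.toLinAlgEquiv' (R := ZMod 2) (n := n)).toAlgHom.comp S.val).toRingHom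
  have hsmul : ∀ (s : ↥S) (v : n → ZMod 2), s • v = (s : Matrix n n (ZMod 2)) *ᵥ v := fun s v => rfl
  haveI : IsScalarTower (ZMod 2) ↥S (n → ZMod 2) := ⟨fun c s v => by
    rw [hsmul, hsmul, Subalgebra.coe_smul, Matrix.smul_mulVec]⟩
  haveI : Module.Finite ↥S (n → ZMod 2) := Module.Finite.of_finite
  let c := Module.finBasis (ZMod 2) ↥S
  let b := Module.finBasis ↥S (n → ZMod 2)
  let cb := c.smulTower b
  let B₀ := Pi.basisFun (ZMod 2) n
  refine ⟨_, _, fun s => Algebra.leftMulMatrix c s, B₀.toMatrix cb, cb.toMatrix B₀,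
    Module.finrank_pos, ?_, rfl, ?_, B₀.toMatrix_mul_toMatrix_flip cb, cb.toMatrix_mul_toMatrix_flip B₀, ?_, ?_⟩
  · exact Module.finrank_pos
  · rw [← Module.finrank_pi (ZMod 2) (ι := n), ← Module.finrank_mul_finrank (ZMod 2) ↥S (n → ZMod 2)]
  · intro s
    have h3 : ∀ jl, Matrix.toLin' (s : Matrix n n (ZMod 2)) (cb jl) = (s * c jl.1) • b jl.2 := by
      intro jl
      rw [Module.Basis.smulTower_apply]
      exact (mul_smul s (c jl.1) (b jl.2)).symm
    have h1 : LinearMap.toMatrix cb cb (Matrix.toLin' (s : Matrix n n (ZMod 2))) =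
        blockDiagonal fun _ => Algebra.leftMulMatrix c s := by
      ext ⟨i, k⟩ ⟨j, l⟩
      rw [LinearMap.toMatrix_apply, h3, Module.Basis.smulTower_repr, map_smul, Finsupp.smul_apply, Module.Basis.repr_self,
        blockDiagonal_apply, Algebra.leftMulMatrix_eq_repr_mul]
      by_cases h : k = l
      · subst h; simp
      · rw [Finsupp.single_eq_of_ne h]; simp [h]
    rw [← h1, basis_toMatrix_mul_linearMap_toMatrix_mul_basis_toMatrix]
    exact (LinearMap.toMatrix'_toLin' _).symm
  · obtain ⟨g, hg⟩ := IsCyclic.exists_monoid_generator (α := (↥S)ˣ)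
    refine ⟨(g : ↥S), fun s => ?_, ?_⟩
    · by_cases h : s = 0
      · exact Or.inl h
      · obtain ⟨k, hk⟩ := hg (Units.mk0 s h)
        exact Or.inr ⟨k, by rw [← Units.val_pow_eq_pow_val]; exact (congrArg Units.val hk).symm⟩
    · have hcard : Fintype.card ↥S = 2 ^ Module.finrank (ZMod 2) ↥S := by
        rw [Module.card_eq_pow_finrank (K := ZMod 2), ZMod.card]
      rw [← hcard, FiniteField.pow_card]

section Main

variable {K : Type*} [Field K]

/-- `r` diagonal copies followed by a change of basis. -/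
def diagHom {e r : ℕ} (P : Matrix n (Fin e × Fin r) K) (Q : Matrix (Fin e × Fin r) n K) (hPQ : P * Q = 1)
    (hQP : Q * P = 1) : Matrix (Fin e) (Fin e) K →+* Matrix n n K where
  toFun X := P * blockDiagonal (fun _ => X) * Q
  map_one' := by
    rw [show (fun _ : Fin r => (1 : Matrix (Fin e) (Fin e) K)) = 1 from rfl, blockDiagonal_one, Matrix.mul_one, hPQ]
  map_mul' X Y := by
    rw [blockDiagonal_mul (fun _ : Fin r => X) fun _ : Fin r => Y]
    simp only [Matrix.mul_assoc]
    congr 2
    rw [← Matrix.mul_assoc Q P, hQP, Matrix.one_mul]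
  map_zero' := by
    rw [show (fun _ : Fin r => (0 : Matrix (Fin e) (Fin e) K)) = 0 from rfl, blockDiagonal_zero, Matrix.mul_zero,
      Matrix.zero_mul]
  map_add' X Y := by
    rw [← Matrix.add_mul, ← Matrix.mul_add, ← blockDiagonal_add]
    rfl

theorem diagHom_smul {e r : ℕ} (P : Matrix n (Fin e × Fin r) K) (Q : Matrix (Fin e × Fin r) n K) (hPQ : P * Q = 1)
    (hQP : Q * P = 1) (c : K) (X : Matrix (Fin e) (Fin e) K) :
    diagHom P Q hPQ hQP (c • X) = c • diagHom P Q hPQ hQP X := by
  show P * blockDiagonal (fun _ => c • X) * Q = c • (P * blockDiagonal (fun _ => X) * Q)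
  rw [show (fun _ : Fin r => c • X) = c • (fun _ : Fin r => X) from rfl, blockDiagonal_smul, Matrix.mul_smul,
    Matrix.smul_mul]

theorem det_diagHom {e r : ℕ} (P : Matrix n (Fin e × Fin r) K) (Q : Matrix (Fin e × Fin r) n K) (hPQ : P * Q = 1)
    (hQP : Q * P = 1) (X : Matrix (Fin e) (Fin e) K) : (diagHom P Q hPQ hQP X).det = X.det ^ r := by
  show (P * blockDiagonal (fun _ => X) * Q).det = _
  rw [det_conj_of_mul_eq_one hPQ hQP, det_blockDiagonal, Finset.prod_const, Finset.card_univ, Fintype.card_fin]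

variable {k : Type*} [Field k] [Fintype k]

/-- The eigen-idempotent of `A` for `l`, when `A ^ |k| = A`. -/
noncomputable def eigIdem {R : Type*} [Ring R] [Algebra k R] (A : R) (l : k) : R :=
  1 - (A - algebraMap k R l) ^ (Fintype.card k - 1)

variable {R : Type*} [Ring R] [Algebra k R] [CharP k 2] {A : R} {q : ℕ}

theorem sub_pow_card [CharP R 2] (hq : Fintype.card k = 2 ^ q) (hA : A ^ Fintype.card k = A) (l : k) :
    (A - algebraMap k R l) ^ Fintype.card k = A - algebraMap k R l := by
  rw [hq] at hA ⊢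
  rw [sub_pow_char_pow_of_commute 2 q (Algebra.commutes l A).symm, hA, ← map_pow, ← hq, FiniteField.pow_card]

theorem eigIdem_eigen [CharP R 2] (hq : Fintype.card k = 2 ^ q) (hA : A ^ Fintype.card k = A) (l : k) :
    A * eigIdem A l = algebraMap k R l * eigIdem A l := by
  rw [← sub_eq_zero, ← sub_mul, eigIdem, mul_sub, mul_one, ← pow_succ',
    Nat.sub_add_cancel Fintype.card_pos, sub_pow_card hq hA, sub_self]

theorem eigIdem_idem [CharP R 2] (hq : Fintype.card k = 2 ^ q) (hA : A ^ Fintype.card k = A) (l : k) :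
    eigIdem A l * eigIdem A l = eigIdem A l := by
  obtain ⟨N, hN⟩ : ∃ N, Fintype.card k = N + 2 := ⟨Fintype.card k - 2, by
    have := Fintype.one_lt_card (α := k); omega⟩
  have h := sub_pow_card hq hA l
  rw [hN] at h
  rw [eigIdem, hN, show N + 2 - 1 = N + 1 by omega]
  have h2 : (A - algebraMap k R l) ^ (N + 1) * (A - algebraMap k R l) ^ (N + 1) =
      (A - algebraMap k R l) ^ (N + 1) := by
    rw [← pow_add, show N + 1 + (N + 1) = N + 2 + N by omega, pow_add, h, ← pow_succ']
  simp [sub_mul, mul_sub, h2]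

theorem eigIdem_orth [CharP R 2] (hq : Fintype.card k = 2 ^ q) (hA : A ^ Fintype.card k = A) {l m : k}
    (hlm : l ≠ m) : eigIdem A l * eigIdem A m = 0 := by
  have hc : Commute (eigIdem A l) A := by
    refine Commute.sub_left (Commute.one_left A) (Commute.pow_left ?_ _)
    exact Commute.sub_left (Commute.refl A) (Algebra.commutes l A)
  have h : algebraMap k R (l - m) * (eigIdem A l * eigIdem A m) = 0 := by
    rw [map_sub, sub_mul, ← mul_assoc, ← eigIdem_eigen hq hA l, ← mul_assoc, Algebra.commutes m (eigIdem A l),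
      mul_assoc (eigIdem A l) (algebraMap k R m), ← eigIdem_eigen hq hA m, ← mul_assoc, ← hc.eq, sub_self]
  have := congrArg (algebraMap k R (l - m)⁻¹ * ·) h
  rwa [← mul_assoc, ← map_mul, inv_mul_cancel₀ (sub_ne_zero.2 hlm), map_one, one_mul, mul_zero] at this

theorem sum_eigIdem [DecidableEq k] (A : R) (hA : A ^ Fintype.card k = A) :
    ∑ l : k, eigIdem A l = 1 := by
  set N := Fintype.card k - 1
  let p : Polynomial k := ∑ l : k, (1 - (Polynomial.X - Polynomial.C l) ^ N)
  have hp : p = 1 := by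
    refine Polynomial.eq_of_natDegree_lt_card_of_eval_eq (ι := k) p 1 Function.injective_id (fun i => ?_) ?_
    · rw [Polynomial.eval_finsetSum, Polynomial.eval_one, Finset.sum_eq_single i]
      · simp [N, Nat.sub_ne_zero_of_lt (Fintype.one_lt_card (α := k))]
      · intro l _ hl
        have : (i - l) ^ N = 1 := FiniteField.pow_card_sub_one_eq_one _ (sub_ne_zero.2 (Ne.symm hl))
        simp [this]
      · simp
    · refine lt_of_le_of_lt (max_le (Polynomial.natDegree_sum_le_of_forall_le _ _ fun l _ => ?_) ?_)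
        (show N < Fintype.card k from Nat.sub_lt Fintype.card_pos one_pos)
      · refine (Polynomial.natDegree_sub_le _ _).trans (max_le (by simp) ?_)
        rw [Polynomial.natDegree_pow, Polynomial.natDegree_X_sub_C, mul_one]
      · simp
  have h := congrArg (Polynomial.aeval A) hp
  rw [map_sum, map_one] at h
  rw [← h]
  refine Finset.sum_congr rfl fun l _ => ?_
  simp [eigIdem, N]

end Main

theorem map_X_smul {F k L σ : Type*} [CommRing F] [CommRing k] [CommRing L] (φ₀ : F →+* k)
    (g : MvPolynomial σ k →+* L) (i : σ) (B : Matrix n n F) :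
    (g.comp (MvPolynomial.map φ₀)).mapMatrix
        ((MvPolynomial.X i : MvPolynomial σ F) • (MvPolynomial.C (σ := σ) (R := F)).mapMatrix B) =
      g (MvPolynomial.X i) • ((g.comp MvPolynomial.C).comp φ₀).mapMatrix B := by
  ext p q
  simp

/-- Main theorem: `J` is a field. -/
theorem IsSpread.commute {J : Submodule (ZMod 2) (Matrix n n (ZMod 2))} [Nonempty n] (hJ : IsSpread J)
    {a b : Matrix n n (ZMod 2)} (ha : a ∈ J) (hb : b ∈ J) : a * b = b * a ∧ a * b ∈ J := by
  classical
  obtain ⟨S, hSJ, hSc, hSmax⟩ := hJ.exists_subalgebra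
  obtain ⟨e, r, μ, P, Q, he, hr0, hef, her, hPQ, hQP, hrep, g, hgen, hgq⟩ :=
    exists_rep S hSc fun s hs h0 => hJ.unit s (hSJ hs) h0
  suffices hr : r = 1 by
    have hSJ' : S.toSubmodule = J := Submodule.eq_of_le_of_finrank_le hSJ (by
      rw [hJ.card, ← her, hr, mul_one, hef]; rfl)
    have ha' : a ∈ S := by rw [← hSJ'] at ha; exact ha
    have hb' : b ∈ S := by rw [← hSJ'] at hb; exact hb
    exact ⟨hSc a ha' b hb', hSJ (S.mul_mem ha' hb')⟩
  by_contra hr1
  haveI : Fact (Nat.Prime 2) := ⟨Nat.prime_two⟩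
  let k := GaloisField 2 e
  letI : Fintype k := Fintype.ofFinite k
  have hk : Fintype.card k = 2 ^ e := by rw [← Nat.card_eq_fintype_card]; exact GaloisField.card 2 e he.ne'
  -- generic element
  let ι := Fin (Module.finrank (ZMod 2) ↥J)
  let bJ := Module.finBasis (ZMod 2) ↥J
  let R₂ := MvPolynomial ι (ZMod 2)
  let R := MvPolynomial ι k
  let K := FractionRing R
  let φ₀ : ZMod 2 →+* k := ZMod.castHom (dvd_refl 2) k
  let ψ : k →+* K := (algebraMap R K).comp MvPolynomial.C
  let φ : ZMod 2 →+* K := ψ.comp φ₀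
  let M := MvPolynomial.map (σ := ι) φ₀
  haveI : CharP K 2 := charP_of_injective_ringHom ψ.injective 2
  let X₂ : Matrix n n R₂ := ∑ i : ι, (MvPolynomial.X i : R₂) •
    (MvPolynomial.C (σ := ι) (R := ZMod 2)).mapMatrix (bJ i : Matrix n n (ZMod 2))
  have hdegX : X₂.det.totalDegree ≤ Fintype.card n := by
    rw [Matrix.det_apply]
    refine MvPolynomial.totalDegree_finsetSum_le fun σ _ => ?_
    refine le_trans (MvPolynomial.totalDegree_smul_le _ _) ?_
    refine (MvPolynomial.totalDegree_finsetProd _ _).trans ?_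
    calc ∑ i : n, (X₂ (σ i) i).totalDegree ≤ ∑ _i : n, 1 := Finset.sum_le_sum fun i _ => by
          simp only [X₂, Matrix.sum_apply]
          refine MvPolynomial.totalDegree_finsetSum_le fun j _ => ?_
          refine (MvPolynomial.totalDegree_mul _ _).trans ?_
          simp
      _ = Fintype.card n := by simp
  let v₁ : ι → ZMod 2 := fun i => bJ.repr ⟨1, hJ.one⟩ i
  have hev : ∀ v : ι → ZMod 2, (MvPolynomial.eval v).mapMatrix X₂ = ((∑ i, v i • bJ i : ↥J) : Matrix n n (ZMod 2)) := by
    intro v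
    ext p q
    simp [X₂, Matrix.sum_apply]
  have hev1 : (MvPolynomial.eval v₁).mapMatrix X₂ = 1 := by
    rw [hev, bJ.sum_repr]
  let x : Matrix n n K := ((algebraMap R K).comp M).mapMatrix X₂
  have hxJ : x ∈ spanExt φ J := by
    simp only [x, X₂, map_sum]
    refine Submodule.sum_mem _ fun i _ => ?_
    rw [map_X_smul φ₀ (algebraMap R K) i (bJ i : Matrix n n (ZMod 2))]
    exact Submodule.smul_mem _ _ (map_mem_spanExt φ (bJ i).2)
  -- idempotents over `k`
  let Φ := diagHom ((P.map φ)) (Q.map φ)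
    (by rw [← Matrix.map_mul, hPQ, Matrix.map_one _ (map_zero φ) (map_one φ)])
    (by rw [← Matrix.map_mul, hQP, Matrix.map_one _ (map_zero φ) (map_one φ)])
  let Φk := diagHom ((P.map φ₀)) (Q.map φ₀)
    (by rw [← Matrix.map_mul, hPQ, Matrix.map_one _ (map_zero φ₀) (map_one φ₀)])
    (by rw [← Matrix.map_mul, hQP, Matrix.map_one _ (map_zero φ₀) (map_one φ₀)])
  let Ak : Matrix n n k := φ₀.mapMatrix (g : Matrix n n (ZMod 2))
  let μk : Matrix (Fin e) (Fin e) k := φ₀.mapMatrix (μ g)
  have hAk : Ak = Φk μk := by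
    show φ₀.mapMatrix (g : Matrix n n (ZMod 2)) = _
    rw [hrep g, RingHom.mapMatrix_apply, Matrix.map_mul, Matrix.map_mul, blockDiagonal_map _ _ (map_zero φ₀)]
    rfl
  have hAkq : Ak ^ Fintype.card k = Ak := by
    rw [hk, show Ak = φ₀.mapMatrix (g : Matrix n n (ZMod 2)) from rfl, ← map_pow, ← SubmonoidClass.coe_pow, hgq]
  let εk : k → Matrix n n k := fun l => eigIdem Ak l
  let ε : k → Matrix n n K := fun l => ψ.mapMatrix (εk l)
  let A : Matrix n n K := φ.mapMatrix (g : Matrix n n (ZMod 2))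
  have hA : A = ψ.mapMatrix Ak := by ext; rfl
  have heig : ∀ l, A * ε l = ψ l • ε l ∧ ε l * A = ψ l • ε l := by
    intro l
    have h1 := eigIdem_eigen hk hAkq l
    have h2 : Commute (εk l) Ak := by
      refine Commute.sub_left (Commute.one_left Ak) (Commute.pow_left ?_ _)
      exact Commute.sub_left (Commute.refl Ak) (Algebra.commutes l Ak)
    have h3 : ψ.mapMatrix (algebraMap k (Matrix n n k) l * εk l) = ψ l • ε l := by
      rw [← Algebra.smul_def]
      ext p q
      simp [ε]
    constructor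
    · rw [hA, ← map_mul, h1, h3]
    · rw [hA, ← map_mul, h2.eq, h1, h3]
  have hSA : ∀ y ∈ spanExt φ J, A * y = y * A → y ∈ spanExt φ S.toSubmodule := fun y hy hc =>
    centralizer_spanExt φ (g : Matrix n n (ZMod 2)) (fun z hz hzc => hSmax z hz fun s hs => by
      rcases hgen ⟨s, hs⟩ with h | ⟨m, h⟩
      · rw [show s = 0 from congrArg Subtype.val h, zero_mul, mul_zero]
      · rw [show s = (g : Matrix n n (ZMod 2)) ^ m from congrArg Subtype.val h]
        exact Commute.pow_left hzc m) hy hc
  have hεS : ∀ (l : k), ∀ y ∈ spanExt φ S.toSubmodule, ∃ c : K, y * ε l = c • ε l := by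
    intro l y hy
    induction hy using Submodule.span_induction with
    | zero => exact ⟨0, by simp⟩
    | add u v _ _ ihu ihv =>
      obtain ⟨c, hc⟩ := ihu; obtain ⟨d, hd⟩ := ihv
      exact ⟨c + d, by rw [add_mul, hc, hd, add_smul]⟩
    | smul c u _ ihu =>
      obtain ⟨d, hd⟩ := ihu
      exact ⟨c * d, by rw [Matrix.smul_mul, hd, smul_smul]⟩
    | mem u hu =>
      obtain ⟨s, hs, rfl⟩ := hu
      rcases hgen ⟨s, hs⟩ with h | ⟨m, h⟩
      · exact ⟨0, by rw [show s = 0 from congrArg Subtype.val h]; simp⟩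
      · refine ⟨ψ l ^ m, ?_⟩
        rw [show s = (g : Matrix n n (ZMod 2)) ^ m from congrArg Subtype.val h]
        show φ.mapMatrix ((g : Matrix n n (ZMod 2)) ^ m) * _ = _
        rw [map_pow]
        clear h
        induction m with
        | zero => simp
        | succ m ih => rw [pow_succ, mul_assoc, show φ.mapMatrix _ * ε l = _ from (heig l).1, Matrix.mul_smul, ih,
            smul_smul, pow_succ']
  have h1m : (1 : Matrix n n K) ∈ spanExt φ J := by simpa using map_mem_spanExt φ hJ.one
  have hεmem : ∀ l, ε l ∈ spanExt φ J := by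
    intro l
    have hAm : A ∈ spanExt φ J := map_mem_spanExt φ (hSJ g.2)
    have h : ε l = 1 - (A - ψ l • (1 : Matrix n n K)) ^ (Fintype.card k - 1) := by
      simp only [ε, εk, eigIdem, map_sub, map_one, map_pow, hA]
      congr 2
      rw [Algebra.algebraMap_eq_smul_one]
      ext p q
      simp [Matrix.one_apply, apply_ite ψ]
    rw [h]
    exact (spanExt φ J).sub_mem h1m
      (pow_spanExt φ hJ ((spanExt φ J).sub_mem hAm ((spanExt φ J).smul_mem _ h1m)) _)
  have hpow := det_isPow φ hJ (r := r) ε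
    (fun l => by rw [← map_mul, eigIdem_idem hk hAkq])
    (fun l m hlm => by rw [← map_mul, eigIdem_orth hk hAkq hlm, map_zero]) hεmem
    (fun l y hy => by
      have h1 := conj_spanExt φ hJ (hεmem l) hy
      obtain ⟨c, hc⟩ := hεS l _ (hSA _ h1 (by
        rw [← mul_assoc, ← mul_assoc, (heig l).1, mul_assoc _ (ε l) A, (heig l).2, Matrix.smul_mul,
          Matrix.smul_mul, Matrix.mul_smul]))
      refine ⟨c, ?_⟩
      rw [← hc, mul_assoc (ε l * y), ← map_mul, eigIdem_idem hk hAkq])
    (fun l c => by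
      refine ⟨(1 - ψ.mapMatrix (eigIdem μk l) + c • ψ.mapMatrix (eigIdem μk l)).det, ?_⟩
      have h1 : εk l = Φk (eigIdem μk l) := by
        simp only [εk, eigIdem, map_sub, map_one, map_pow, hAk]
        congr 2
        rw [Algebra.algebraMap_eq_smul_one, Algebra.algebraMap_eq_smul_one, diagHom_smul, map_one]
      have h2 : ε l = Φ (ψ.mapMatrix (eigIdem μk l)) := by
        show ψ.mapMatrix (εk l) = _
        rw [h1]
        show (P.map φ₀ * blockDiagonal _ * Q.map φ₀).map ψ = P.map φ * blockDiagonal _ * Q.map φ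
        rw [Matrix.map_mul, Matrix.map_mul, blockDiagonal_map _ _ (map_zero ψ), Matrix.map_map, Matrix.map_map]
        rfl
      rw [h2, ← map_one Φ, ← map_sub, ← diagHom_smul, ← map_add, det_diagHom])
    hxJ Finset.univ
    (fun t _ => by
      let T : Matrix n n R := MvPolynomial.C.mapMatrix (∑ l ∈ t, εk l)
      have h1 : (∑ l ∈ t, ε l) * x * (∑ l ∈ t, ε l) + (1 - ∑ l ∈ t, ε l) =
          (algebraMap R K).mapMatrix (T * M.mapMatrix X₂ * T + (1 - T)) := by
        have hT : (∑ l ∈ t, ε l) = (algebraMap R K).mapMatrix T := by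
          simp only [T, map_sum]
          exact Finset.sum_congr rfl fun l _ => by ext; rfl
        rw [map_add, map_sub, map_one, map_mul, map_mul, ← hT]
        rfl
      rw [h1, ← RingHom.map_det]
      intro h0
      have h2 := IsFractionRing.injective R K (h0.trans (map_zero _).symm)
      have h3 := congrArg (MvPolynomial.eval (fun i => φ₀ (v₁ i))) h2
      rw [RingHom.map_det, map_zero, map_add, map_sub, map_one, map_mul, map_mul] at h3
      have h4 : (MvPolynomial.eval fun i => φ₀ (v₁ i)).mapMatrix (M.mapMatrix X₂) = 1 := by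
        have h5 : φ₀.mapMatrix ((MvPolynomial.eval v₁).mapMatrix X₂) = 1 := by rw [hev1, map_one]
        rw [← h5]
        ext p q
        simp only [RingHom.mapMatrix_apply, Matrix.map_apply, M, MvPolynomial.eval_map]
        exact (MvPolynomial.eval₂_comp φ₀ v₁ _).symm
      have h6 : (MvPolynomial.eval fun i => φ₀ (v₁ i)).mapMatrix T = ∑ l ∈ t, εk l := by
        ext p q; simp [T, Matrix.sum_apply]
      rw [h4, h6, mul_one, show (∑ l ∈ t, εk l) * (∑ l ∈ t, εk l) = ∑ l ∈ t, εk l by
        rw [Finset.sum_mul]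
        refine Finset.sum_congr rfl fun i hi => ?_
        rw [Finset.mul_sum, Finset.sum_eq_single i (fun j _ hj => eigIdem_orth hk hAkq (Ne.symm hj))
          (fun h => absurd hi h)]
        exact eigIdem_idem hk hAkq i, add_sub_cancel, Matrix.det_one] at h3
      exact one_ne_zero h3)
  have hsum : ∑ l : k, ε l = 1 := by
    show ∑ l : k, ψ.mapMatrix (eigIdem Ak l) = 1
    rw [← map_sum, sum_eigIdem Ak hAkq, map_one]
  rw [hsum, one_mul, mul_one, sub_self, add_zero] at hpow
  obtain ⟨d, hd⟩ := hpow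
  -- `d` is a polynomial
  have hd' : algebraMap R K (M X₂.det) = d ^ r := by
    rw [← hd, RingHom.map_det, RingHom.map_det]
    rfl
  obtain ⟨D, rfl⟩ : ∃ y : R, algebraMap R K y = d :=
    IsIntegrallyClosed.isIntegral_iff.1 (IsIntegral.of_pow hr0 (hd' ▸ isIntegral_algebraMap))
  rw [← map_pow] at hd'
  have hD := IsFractionRing.injective R K hd'
  -- normalize and descend to `ZMod 2`
  let w : ι → k := fun i => φ₀ (v₁ i)
  have hD1 : MvPolynomial.eval w D ^ r = 1 := by
    rw [← map_pow, ← hD]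
    simp only [M, MvPolynomial.eval_map, w]
    rw [show (fun i => φ₀ (v₁ i)) = φ₀ ∘ v₁ from rfl, ← MvPolynomial.eval₂_comp, RingHom.map_det]
    rw [← map_one φ₀]
    congr 1
    rw [hev1, Matrix.det_one]
  set D' : R := MvPolynomial.C (MvPolynomial.eval w D)⁻¹ * D with hD'def
  have hc0 : MvPolynomial.eval w D ≠ 0 := fun h => by
    rw [h, zero_pow hr0.ne'] at hD1; exact zero_ne_one hD1
  have hD' : D' ^ r = M X₂.det := by
    rw [hD'def, mul_pow, ← map_pow, inv_pow, hD1, inv_one, map_one, one_mul, hD]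
  have hw1 : MvPolynomial.eval w D' = 1 := by
    rw [hD'def, map_mul, MvPolynomial.eval_C, inv_mul_cancel₀ hc0]
  let F := frobenius k 2
  have hFφ : F.comp φ₀ = φ₀ := Subsingleton.elim _ _
  have hFD : MvPolynomial.map F D' = D' := by
    have hpw : (MvPolynomial.map F D') ^ r = D' ^ r := by
      rw [← map_pow, hD']
      simp only [M]
      rw [MvPolynomial.map_map, hFφ]
    have hD0 : D' ≠ 0 := fun h => by rw [h, map_zero] at hw1; exact zero_ne_one hw1
    have hK0 : algebraMap R K D' ≠ 0 := fun h => hD0 (IsFractionRing.injective R K (h.trans (map_zero _).symm))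
    have hz : (algebraMap R K (MvPolynomial.map F D') / algebraMap R K D') ^ r = 1 := by
      rw [div_pow, ← map_pow (algebraMap R K), ← map_pow (algebraMap R K), hpw, div_self]
      rw [map_pow]
      exact pow_ne_zero _ hK0
    obtain ⟨z, hzeq⟩ := IsIntegrallyClosed.isIntegral_iff.1
      (IsIntegral.of_pow hr0 (hz ▸ (isIntegral_one : IsIntegral R (1 : K))))
    rw [← hzeq, ← map_pow, ← map_one (algebraMap R K)] at hz
    have hzu : IsUnit z := IsUnit.of_pow_eq_one (IsFractionRing.injective R K hz) hr0.ne'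
    obtain ⟨c, hc, rfl⟩ := MvPolynomial.isUnit_iff_eq_C_of_isReduced.1 hzu
    rw [eq_div_iff hK0, ← map_mul] at hzeq
    have heq := IsFractionRing.injective R K hzeq
    have h1 := congrArg (MvPolynomial.eval w) heq
    have hFw : MvPolynomial.eval w (MvPolynomial.map F D') = F (MvPolynomial.eval w D') := by
      rw [MvPolynomial.eval_map]
      conv_lhs => rw [show w = F ∘ w from funext fun i => (RingHom.congr_fun hFφ (v₁ i)).symm]
      exact (MvPolynomial.eval₂_comp F w D').symm
    rw [map_mul, MvPolynomial.eval_C, hw1, mul_one, hFw, hw1, map_one] at h1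
    rw [← heq, h1, map_one, one_mul]
  obtain ⟨D₂, hD₂⟩ : ∃ D₂ : R₂, M D₂ = D' := by
    refine ⟨∑ m ∈ D'.support, MvPolynomial.monomial m 1, ?_⟩
    conv_rhs => rw [MvPolynomial.as_sum D']
    rw [map_sum]
    refine Finset.sum_congr rfl fun m hm => ?_
    simp only [M, MvPolynomial.map_monomial, map_one]
    congr 1
    have h := congrArg (MvPolynomial.coeff m) hFD
    rw [MvPolynomial.coeff_map, show F (D'.coeff m) = (D'.coeff m) ^ 2 from frobenius_def .., sq] at h
    exact ((mul_eq_left₀ (MvPolynomial.mem_support_iff.1 hm)).1 h).symm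
  have hfin : D₂ ^ r = X₂.det := by
    apply MvPolynomial.map_injective φ₀ φ₀.injective
    show M (D₂ ^ r) = M X₂.det
    rw [map_pow, hD₂, hD']
  have hdeg : D₂.totalDegree < Fintype.card ι := by
    rw [Fintype.card_fin, hJ.card]
    have hdet0 : X₂.det ≠ 0 := fun h => by
      have := congrArg (MvPolynomial.eval v₁) h
      rw [RingHom.map_det, hev1, Matrix.det_one, map_zero] at this
      exact one_ne_zero this
    have hD20 : D₂ ≠ 0 := fun h => hdet0 (by rw [← hfin, h, zero_pow hr0.ne'])
    have hpw : ∀ m, (D₂ ^ m).totalDegree = m * D₂.totalDegree := by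
      intro m
      induction m with
      | zero => simp
      | succ m ih =>
        rw [pow_succ, MvPolynomial.totalDegree_mul_of_isDomain (pow_ne_zero _ hD20) hD20, ih, Nat.succ_mul]
    have h := hdegX
    rw [← hfin, hpw] at h
    by_contra hh
    push Not at hh
    have : 2 * Fintype.card n ≤ Fintype.card n :=
      (Nat.mul_le_mul (show 2 ≤ r by omega) hh).trans h
    have := Fintype.card_pos (α := n)
    omega
  have hdvd := char_dvd_card_solutions 2 hdeg
  have h0 : MvPolynomial.eval (0 : ι → ZMod 2) D₂ = 0 := by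
    have h := congrArg (MvPolynomial.eval (0 : ι → ZMod 2)) hfin
    rw [map_pow, RingHom.map_det, hev] at h
    simp only [Pi.zero_apply, zero_smul, Finset.sum_const_zero, Submodule.coe_zero] at h
    rw [Matrix.det_zero] at h
    exact eq_zero_of_pow_eq_zero h
  obtain ⟨⟨v, hv⟩, hv0⟩ := Fintype.exists_ne_of_one_lt_card
    (lt_of_lt_of_le one_lt_two (Nat.le_of_dvd (Fintype.card_pos_iff.2 ⟨⟨0, h0⟩⟩) hdvd)) ⟨0, h0⟩
  have hne : ((∑ i, v i • bJ i : ↥J) : Matrix n n (ZMod 2)) ≠ 0 := by
    intro h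
    apply hv0
    refine Subtype.ext (funext fun i => ?_)
    exact Fintype.linearIndependent_iff.1 bJ.linearIndependent v (Subtype.ext h) i
  have h := congrArg (MvPolynomial.eval v) hfin
  rw [map_pow, RingHom.map_det, hev, hv, zero_pow hr0.ne'] at h
  exact ((Matrix.isUnit_iff_isUnit_det _).1 (hJ.unit _ (Submodule.coe_mem _) hne)).ne_zero h.symm

end CfsgLib.SpreadField
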