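import Mathlib

/-! Trivial intersection families of subgroups of `p`-groups. -/

set_option autoImplicit false

namespace CfsgLib.Classif

open Subgroup

variable {G : Type*} [Group G]

/-- `gRg⁻¹`. -/
abbrev conjSub (R : Subgroup G) (g : G) : Subgroup G := R.map (MulAut.conj g).toMonoidHom

theorem conj_mem_conjSub {R : Subgroup G} (g : G) {x : G} (hx : x ∈ R) :
    g * x * g⁻¹ ∈ conjSub R g :=
  ⟨x, hx, rfl⟩

theorem conjSub_le_of_mem {R H : Subgroup G} {g : G} (hg : g ∈ H) (hR : R ≤ H) : conjSub R g ≤ H := by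
  rintro _ ⟨x, hx, rfl⟩
  exact H.mul_mem (H.mul_mem hg (hR hx)) (H.inv_mem hg)

theorem card_conjSub (R : Subgroup G) (g : G) : Nat.card ↥(conjSub R g) = Nat.card ↥R :=
  card_map_of_injective (MulAut.conj g).injective

theorem conjSub_eq_iff {R : Subgroup G} {g : G} :
    conjSub R g = R ↔ g ∈ normalizer (R : Set G) := by
  constructor
  · intro h
    rw [mem_normalizer_iff]
    intro x
    refine ⟨fun hx => h ▸ conj_mem_conjSub g hx, fun hx => ?_⟩
    rw [← h] at hx
    obtain ⟨y, hy, hyx⟩ := hx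
    obtain rfl : y = x := (MulAut.conj g).injective hyx
    exact hy
  · intro h
    ext x
    constructor
    · rintro ⟨y, hy, rfl⟩
      exact (mem_normalizer_iff.1 h y).1 hy
    · intro hx
      refine ⟨g⁻¹ * x * g, (mem_normalizer_iff''.1 h x).1 hx, ?_⟩
      simp [mul_assoc]

theorem conjSub_eq_of_commute {R : Subgroup G} {g x : G}
    (hti : conjSub R g = R ∨ conjSub R g ⊓ R = ⊥) (hx : x ∈ R) (hx1 : x ≠ 1) (hgx : g * x = x * g) :
    g ∈ normalizer (R : Set G) := by
  refine conjSub_eq_iff.1 (hti.resolve_right fun h => hx1 ?_)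
  have h1 : x ∈ conjSub R g := by
    have := conj_mem_conjSub g hx
    rwa [hgx, mul_inv_cancel_right] at this
  exact mem_bot.1 (h ▸ ⟨h1, hx⟩)

/-- If each of `R`, `T` normalizes the other and they meet trivially then they commute. -/
theorem commutator_eq_bot_of_normalize {R T : Subgroup G} (hRT : R ≤ normalizer (T : Set G))
    (hTR : T ≤ normalizer (R : Set G)) (h : R ⊓ T = ⊥) : ⁅R, T⁆ = ⊥ :=
  le_bot_iff.1 (h ▸ le_inf (le_normalizer_iff_commutator_le_left.1 hTR)
    (le_normalizer_iff_commutator_le_right.1 hRT))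

/-- In a `p`-group, if `T` normalizes `R`, has the same order, and meets its conjugates under `R`
trivially, then `R` normalizes `T`. -/
theorem le_normalizer_of_equal_order [Finite G] {p : ℕ} [Fact p.Prime] {R T : Subgroup G}
    (hR : IsPGroup p ↥R) (hT : IsPGroup p ↥T) (hcard : Nat.card ↥R = Nat.card ↥T)
    (hTR : T ≤ normalizer (R : Set G))
    (hti : ∀ r ∈ R, conjSub T r = T ∨ conjSub T r ⊓ T = ⊥) :
    R ≤ normalizer (T : Set G) := by
  by_contra hne
  set N := R ⊓ normalizer (T : Set G) with hN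
  set X := R ⊔ T with hX
  set K := N ⊔ T with hK
  have hKX : K ≤ X := sup_le_sup_right inf_le_left T
  have hKn : K ≤ normalizer (T : Set G) := sup_le inf_le_right le_normalizer
  have hXp : IsPGroup p ↥X := by
    rw [hX, sup_comm]
    exact hT.to_sup_of_normal_right' hR hTR
  haveI := hXp.isNilpotent
  have hlt : K.subgroupOf X < ⊤ := by
    rw [lt_top_iff_ne_top, Ne, subgroupOf_eq_top]
    exact fun h => hne ((le_sup_left.trans h).trans hKn)
  obtain ⟨⟨x, hxX⟩, hx, hxK⟩ := SetLike.exists_of_lt (Group.normalizerCondition_of_isNilpotent _ hlt)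
  rw [← subgroupOf_normalizer_eq hKX] at hx
  have hxs : x ∈ ((R ⊔ T : Subgroup G) : Set G) := hxX
  rw [coe_mul_of_right_le_normalizer_left R T hTR] at hxs
  obtain ⟨r, hr, t, ht, rfl⟩ := hxs
  have hrK : r ∈ normalizer (K : Set G) := by
    have h1 : t ∈ normalizer (K : Set G) := le_normalizer (le_sup_right (a := N) ht)
    have h2 : r * t ∈ normalizer (K : Set G) := hx
    simpa using Subgroup.mul_mem _ h2 (Subgroup.inv_mem _ h1)
  have hrN : r ∉ normalizer (T : Set G) := fun h =>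
    hxK (mem_subgroupOf.2 (mul_mem_sup ⟨hr, h⟩ ht))
  have hle : conjSub T r ≤ K := by
    rintro _ ⟨y, hy, rfl⟩
    exact (mem_normalizer_iff.1 hrK y).1 (le_sup_right (a := N) hy)
  have hdis : conjSub T r ⊓ T = ⊥ := (hti r hr).resolve_left fun h => hrN (conjSub_eq_iff.1 h)
  have hcardK : Nat.card ↥K ≤ Nat.card ↥N * Nat.card ↥T := by
    rw [← Nat.card_prod]
    refine Nat.card_le_card_of_surjective
      (fun q : ↥N × ↥T => (⟨(q.1 : G) * q.2, mul_mem_sup q.1.2 q.2.2⟩ : ↥K)) ?_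
    rintro ⟨k, hk⟩
    have hk' : k ∈ ((N ⊔ T : Subgroup G) : Set G) := hk
    rw [coe_mul_of_left_le_normalizer_right N T inf_le_right] at hk'
    obtain ⟨a, ha, b, hb, rfl⟩ := hk'
    exact ⟨(⟨a, ha⟩, ⟨b, hb⟩), rfl⟩
  have hcard2 : Nat.card ↥(conjSub T r) * Nat.card ↥T ≤ Nat.card ↥K := by
    rw [← Nat.card_prod]
    refine Nat.card_le_card_of_injective
      (fun q : ↥(conjSub T r) × ↥T =>
        (⟨(q.1 : G) * q.2, mul_mem (hle q.1.2) (le_sup_right (a := N) q.2.2)⟩ : ↥K)) ?_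
    rintro ⟨⟨a, ha⟩, ⟨b, hb⟩⟩ ⟨⟨a', ha'⟩, ⟨b', hb'⟩⟩ heq
    have heq' : a * b = a' * b' := congrArg Subtype.val heq
    have h1 : a'⁻¹ * a = b' * b⁻¹ := by
      have := congrArg (fun z => a'⁻¹ * z * b⁻¹) heq'
      simpa [mul_assoc] using this
    have h2 : a'⁻¹ * a ∈ conjSub T r ⊓ T :=
      ⟨Subgroup.mul_mem _ (Subgroup.inv_mem _ ha') ha, h1 ▸ Subgroup.mul_mem _ hb' (Subgroup.inv_mem _ hb)⟩
    rw [hdis, mem_bot, inv_mul_eq_one] at h2
    subst h2
    simp only [mul_left_cancel heq']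
  rw [card_conjSub] at hcard2
  have hNR : Nat.card ↥N < Nat.card ↥R := by
    refine lt_of_le_of_ne (Nat.le_of_dvd Nat.card_pos (card_dvd_of_le inf_le_left)) fun h => hne ?_
    exact (eq_of_le_of_card_ge (inf_le_left : N ≤ R) h.ge).ge.trans inf_le_right
  have := hcard2.trans hcardK
  have hpos : 0 < Nat.card ↥T := Nat.card_pos
  have h3 := Nat.le_of_mul_le_mul_right this hpos
  omega

theorem commutator_eq_bot_of_equal_order [Finite G] {p : ℕ} [Fact p.Prime] {R T : Subgroup G}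
    (hR : IsPGroup p ↥R) (hT : IsPGroup p ↥T) (hcard : Nat.card ↥R = Nat.card ↥T)
    (hTR : T ≤ normalizer (R : Set G)) (h : R ⊓ T = ⊥)
    (hti : ∀ r ∈ R, conjSub T r = T ∨ conjSub T r ⊓ T = ⊥) : ⁅R, T⁆ = ⊥ :=
  commutator_eq_bot_of_normalize (le_normalizer_of_equal_order hR hT hcard hTR hti) hTR h

end CfsgLib.Classif
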